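import Mathlib.RingTheory.Smooth.Basic
import Mathlib.RingTheory.Kaehler.Basic
import Mathlib.RingTheory.Ideal.Quotient.Operations
import Mathlib.LinearAlgebra.Projection
import Mathlib.Algebra.Module.Projective

/-!
# Derivations with prescribed values at finitely many points
-/

set_option autoImplicit false

universe u v

namespace Groth.Agent.MarkedDef3

variable {k : Type u} [Field k] {A : Type u} [CommRing A] [Algebra k A] [Algebra.FormallySmooth k A]

/-- On a smooth algebra tangent vectors at distinct points extend to a derivation. -/
theorem exists_derivation {ι : Type v} [Finite ι] (q : ι → (A →ₐ[k] k)) (hq : Function.Injective q)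
    (v : ι → A → k) (hadd : ∀ i x y, v i (x + y) = v i x + v i y)
    (hsmul : ∀ i (c : k) x, v i (c • x) = c * v i x)
    (hmul : ∀ i x y, v i (x * y) = q i x * v i y + q i y * v i x) :
    ∃ D : Derivation k A A, ∀ i x, q i (D x) = v i x := by
  classical
  letI : Algebra A (ι → k) := (Pi.ringHom fun i => (q i).toRingHom).toAlgebra
  have halg : ∀ a i, algebraMap A (ι → k) a i = q i a := fun _ _ => rfl
  haveI : IsScalarTower k A (ι → k) := IsScalarTower.of_algebraMap_eq fun c => funext fun i =>
    ((q i).commutes c).symm
  let D₀ : Derivation k A (ι → k) := Derivation.mk'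
    { toFun := fun x i => v i x
      map_add' := fun x y => funext fun i => hadd i x y
      map_smul' := fun c x => funext fun i => hsmul i c x }
    fun x y => funext fun i => by
      show v i (x * y) = (x • fun i => v i y) i + (y • fun i => v i x) i
      rw [Algebra.smul_def, Algebra.smul_def, Pi.mul_apply, Pi.mul_apply, halg, halg]
      exact hmul i x y
  have hsurj : Function.Surjective (Algebra.linearMap A (ι → k)) := by
    intro y
    let P : ι → Ideal A := fun i => RingHom.ker (q i).toRingHom
    have hmax : ∀ i, (P i).IsMaximal := fun i =>
      RingHom.ker_isMaximal_of_surjective _ fun c => ⟨algebraMap k A c, (q i).commutes c⟩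
    have hP : Pairwise fun i j => IsCoprime (P i) (P j) := fun i j hij => by
      refine Ideal.isCoprime_iff_sup_eq.2 ((hmax i).coprime_of_ne (hmax j) fun h => hij (hq ?_))
      refine AlgHom.ext fun a => ?_
      have : a - algebraMap k A (q i a) ∈ P i := RingHom.mem_ker.2 (by simp)
      rw [h] at this
      have := RingHom.mem_ker.1 this
      have h' : q j a - q i a = 0 := by simpa using this
      exact (sub_eq_zero.1 h').symm
    obtain ⟨r, hr⟩ := Ideal.exists_forall_sub_mem_ideal hP fun i => algebraMap k A (y i)
    refine ⟨r, funext fun i => ?_⟩
    have := RingHom.mem_ker.1 (hr i)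
    simpa [halg, sub_eq_zero] using this
  obtain ⟨g, hg⟩ := Module.projective_lifting_property (Algebra.linearMap A (ι → k)) D₀.liftKaehlerDifferential hsurj
  refine ⟨g.compDer (KaehlerDifferential.D k A), fun i x => ?_⟩
  have := congrFun (LinearMap.congr_fun hg (KaehlerDifferential.D k A x)) i
  rw [Derivation.liftKaehlerDifferential_comp_D] at this
  exact this

end Groth.Agent.MarkedDef3
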