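import Groth.Agent.Lib.MarkedDef3.Derivation
import Groth.Agent.Lib.TrivDef.Basic

/-!
# First order deformations with marked sections
-/

set_option autoImplicit false

universe u v

open TensorProduct

namespace Groth.Agent.MarkedDef3

variable {k A B B' : Type u} [Field k] [CommRing A] [Algebra k A] [CommRing B] [Algebra k B]

/-- The automorphism attached to a derivation and a square-zero element. -/
theorem exists_shift (ε : A) (hε : ε * ε = 0) (E : Derivation k B B) :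
    ∃ τ : A ⊗[k] B →ₐ[A] A ⊗[k] B, ∀ a b, τ (a ⊗ₜ b) = a ⊗ₜ b + (a * ε) ⊗ₜ E b := by
  let l : B →ₐ[k] A ⊗[k] B := AlgHom.ofLinearMap
    { toFun := fun b => (1 : A) ⊗ₜ[k] b + ε ⊗ₜ[k] E b
      map_add' := fun x y => by rw [map_add, tmul_add, tmul_add]; abel
      map_smul' := fun c x => by rw [E.map_smul, tmul_smul, tmul_smul, smul_add]; rfl }
    (by show (1 : A) ⊗ₜ[k] (1 : B) + ε ⊗ₜ[k] E 1 = 1
        rw [Derivation.map_one_eq_zero, tmul_zero, add_zero]; rfl)
    (fun x y => by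
      show (1 : A) ⊗ₜ[k] (x * y) + ε ⊗ₜ[k] E (x * y) = (_ + _) * (_ + _)
      rw [Derivation.leibniz, smul_eq_mul, smul_eq_mul, tmul_add]
      simp only [add_mul, mul_add, Algebra.TensorProduct.tmul_mul_tmul, one_mul, mul_one, hε, zero_tmul, add_zero]
      rw [mul_comm y (E x)]
      abel)
  refine ⟨Algebra.TensorProduct.lift (Algebra.ofId A _) l (fun _ _ => Commute.all _ _), fun a b => ?_⟩
  rw [Algebra.TensorProduct.lift_tmul]
  show algebraMap A (A ⊗[k] B) a * ((1 : A) ⊗ₜ[k] b + ε ⊗ₜ[k] E b) = _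
  rw [Algebra.TensorProduct.algebraMap_apply, mul_add, Algebra.TensorProduct.tmul_mul_tmul,
    Algebra.TensorProduct.tmul_mul_tmul, one_mul, one_mul, Algebra.algebraMap_self, RingHom.id_apply, mul_one]

variable [CommRing B'] [Algebra A B'] [Algebra k B'] [IsScalarTower k A B']

/-- A flat first order deformation of a smooth algebra with finitely many sections is the trivial one, compatibly
with the sections. -/
theorem exists_marked_trivialization [IsLocalRing A] [IsArtinianRing A] [Algebra.FormallySmooth k B]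
    [Module.Flat A B'] (e : A →ₐ[k] k) (ε : A) (hε : ε * ε = 0) (heε : e ε = 0) (sn : A →ₗ[k] k)
    (hA : ∀ a, a = algebraMap k A (e a) + algebraMap k A (sn a) * ε)
    (hsn : ∀ a a', sn (a * a') = e a * sn a' + e a' * sn a)
    (ρ : B' →ₐ[k] B) (hρ : Function.Surjective ρ)
    (hker : RingHom.ker ρ = (RingHom.ker e).map (algebraMap A B'))
    {ι : Type v} [Finite ι] (q : ι → (B →ₐ[k] k)) (hq : Function.Injective q)
    (s : ι → (B' →ₐ[A] A)) (hs : ∀ j y, e (s j y) = q j (ρ y)) :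
    ∃ θ : A ⊗[k] B ≃ₐ[A] B', (∀ b, ρ (θ (1 ⊗ₜ b)) = b) ∧
      ∀ j b, s j (θ (1 ⊗ₜ b)) = algebraMap k A (q j b) := by
  obtain ⟨θ, hθ⟩ := TrivDef.exists_trivialization e ρ hρ hker
  have hfst : ∀ j b, e (s j (θ (1 ⊗ₜ b))) = q j b := fun j b => by rw [hs, hθ]
  let v : ι → B → k := fun j b => sn (s j (θ (1 ⊗ₜ b)))
  obtain ⟨D, hD⟩ := exists_derivation q hq (fun j b => - v j b)
    (fun j x y => by
      show -sn (s j (θ (1 ⊗ₜ (x + y)))) = _
      rw [tmul_add, map_add, map_add, map_add, neg_add])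
    (fun j c x => by
      show -sn (s j (θ (1 ⊗ₜ (c • x)))) = _
      rw [tmul_smul, ← algebraMap_smul A c ((1 : A) ⊗ₜ[k] x), map_smul, map_smul,
        algebraMap_smul, map_smul, smul_eq_mul, mul_neg])
    (fun j x y => by
      show -sn (s j (θ (1 ⊗ₜ (x * y)))) = _
      rw [show (1 : A) ⊗ₜ[k] (x * y) = (1 ⊗ₜ x) * (1 ⊗ₜ y) by
        rw [Algebra.TensorProduct.tmul_mul_tmul, one_mul], map_mul, map_mul, hsn, hfst, hfst]
      ring)
  obtain ⟨τ, hτ⟩ := exists_shift ε hε D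
  obtain ⟨τ', hτ'⟩ := exists_shift ε hε (-D)
  have hinv : ∀ (f g : A ⊗[k] B →ₐ[A] A ⊗[k] B) (E : Derivation k B B),
      (∀ a b, f (a ⊗ₜ b) = a ⊗ₜ b + (a * ε) ⊗ₜ E b) →
      (∀ a b, g (a ⊗ₜ b) = a ⊗ₜ b + (a * ε) ⊗ₜ (-E) b) → ∀ z, f (g z) = z := by
    intro f g E hf hg z
    induction z using TensorProduct.induction_on with
    | zero => rw [map_zero, map_zero]
    | add x y hx hy => rw [map_add, map_add, hx, hy]
    | tmul a b =>
      rw [hg, map_add, hf, hf, mul_assoc, hε, mul_zero, zero_tmul, add_zero, Derivation.neg_apply,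
        tmul_neg, add_neg_cancel_right]
  let T : A ⊗[k] B ≃ₐ[A] A ⊗[k] B :=
    AlgEquiv.ofAlgHom τ τ' (AlgHom.ext (hinv τ τ' D hτ hτ'))
      (AlgHom.ext (hinv τ' τ (-D) hτ' (by rw [neg_neg]; exact hτ)))
  have hsmul : ∀ b, θ (ε ⊗ₜ[k] b) = algebraMap A B' ε * θ (1 ⊗ₜ b) := fun b => by
    rw [← AlgEquiv.commutes θ, ← map_mul, Algebra.TensorProduct.algebraMap_apply, Algebra.TensorProduct.tmul_mul_tmul,
      Algebra.algebraMap_self, RingHom.id_apply, mul_one, one_mul]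
  have hT : ∀ b, T.trans θ (1 ⊗ₜ b) = θ (1 ⊗ₜ b) + algebraMap A B' ε * θ (1 ⊗ₜ D b) := fun b => by
    show θ (τ (1 ⊗ₜ b)) = _
    rw [hτ, one_mul, map_add, hsmul]
  refine ⟨T.trans θ, fun b => ?_, fun j b => ?_⟩
  · rw [hT, map_add, map_mul, hθ,
      show ρ (algebraMap A B' ε) = 0 from RingHom.mem_ker.1 (hker.ge (Ideal.mem_map_of_mem _ (RingHom.mem_ker.2 heε))),
      zero_mul, add_zero]
  · rw [hT, map_add, map_mul, AlgHom.commutes, Algebra.algebraMap_self, RingHom.id_apply,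
      hA (s j (θ (1 ⊗ₜ b))), hA (s j (θ (1 ⊗ₜ D b))), hfst, hfst, hD,
      show sn (s j (θ (1 ⊗ₜ b))) = v j b from rfl, map_neg]
    linear_combination (algebraMap k A (sn (s j (θ (1 ⊗ₜ D b))))) * hε

end Groth.Agent.MarkedDef3
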